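/-
Order bounds from an order formula `d * n = q^N * R` with `R` prime to `p`.
-/
import Mathlib

set_option autoImplicit false

namespace Cfsg.Agent.LieOrder

/-- `q` is a positive power of `p`. -/
def PosPow (p q : ℕ) : Prop := ∃ e, 1 ≤ e ∧ q = p ^ e

theorem PosPow.dvd {p q : ℕ} (h : PosPow p q) : p ∣ q := by
  obtain ⟨e, he, rfl⟩ := h
  exact dvd_pow_self p (by omega)

theorem PosPow.two_le {p q : ℕ} (hp : p.Prime) (h : PosPow p q) : 2 ≤ q := by
  obtain ⟨e, he, rfl⟩ := h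
  exact hp.two_le.trans (Nat.le_self_pow (by omega) p)

theorem posPow_of_pow_eq {p q r f : ℕ} (hp : p.Prime) (hr : r ≠ 0) (h : q ^ r = p ^ f) (hq : 1 < q) :
    PosPow p q := by
  have hd : q ∣ p ^ f := h ▸ dvd_pow_self q hr
  obtain ⟨e, _, rfl⟩ := (Nat.dvd_prime_pow hp).1 hd
  refine ⟨e, ?_, rfl⟩
  rcases Nat.eq_zero_or_pos e with rfl | he
  · simp at hq
  · exact he

theorem not_dvd_pow_sub_one {p q j : ℕ} (hp : p.Prime) (hq : PosPow p q) (hj : j ≠ 0) :
    ¬ p ∣ q ^ j - 1 := fun h => by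
  have h1 : 1 ≤ q ^ j := Nat.one_le_pow _ _ (by have := hq.two_le hp; omega)
  have h2 : p ∣ q ^ j := dvd_trans hq.dvd (dvd_pow_self q hj)
  have := Nat.dvd_sub h2 h
  rw [Nat.sub_sub_self h1] at this
  exact hp.not_dvd_one this

theorem not_dvd_pow_add_one {p q j : ℕ} (hp : p.Prime) (hq : PosPow p q) (hj : j ≠ 0) :
    ¬ p ∣ q ^ j + 1 := fun h =>
  hp.not_dvd_one ((Nat.dvd_add_right (dvd_trans hq.dvd (dvd_pow_self q hj))).1 h)

theorem not_dvd_sub_one {p q : ℕ} (hp : p.Prime) (hq : PosPow p q) : ¬ p ∣ q - 1 := by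
  simpa using not_dvd_pow_sub_one hp hq one_ne_zero

theorem not_dvd_add_one {p q : ℕ} (hp : p.Prime) (hq : PosPow p q) : ¬ p ∣ q + 1 := by
  simpa using not_dvd_pow_add_one hp hq one_ne_zero

theorem not_dvd_gcd {p a b : ℕ} (h : ¬ p ∣ b) : ¬ p ∣ Nat.gcd a b := fun h' =>
  h (h'.trans (Nat.gcd_dvd_right a b))

theorem not_dvd_prod {p : ℕ} (hp : p.Prime) {ι : Type*} {s : Finset ι} {f : ι → ℕ}
    (h : ∀ i ∈ s, ¬ p ∣ f i) : ¬ p ∣ ∏ i ∈ s, f i :=
  (Nat.prime_iff.1 hp).not_dvd_finsetProd h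

theorem prod_pow_sub_one_le (q : ℕ) {ι : Type*} (s : Finset ι) (a : ι → ℕ) :
    ∏ i ∈ s, (q ^ a i - 1) ≤ q ^ (∑ i ∈ s, a i) := by
  rw [← Finset.prod_pow_eq_pow_sum]
  exact Finset.prod_le_prod' fun i _ => Nat.sub_le _ _

theorem add_one_le_pow_succ {q j : ℕ} (hq : 2 ≤ q) : q ^ j + 1 ≤ q ^ (j + 1) := by
  have h1 : 1 ≤ q ^ j := Nat.one_le_pow _ _ (by omega)
  rw [pow_succ]
  nlinarith

/-- The statement to be proved about the order `n`: both bounds, the second one conditional on `C`. -/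
def Bounds (p n : ℕ) : Prop :=
  n < p ^ (3 * n.factorization p) ∧ n ^ 3 < p ^ (8 * n.factorization p)

theorem factorization_of_formula {p q e n d R N : ℕ} (hp : p.Prime) (hqe : q = p ^ e) (hn : n ≠ 0)
    (heq : d * n = q ^ N * R) (hd : ¬ p ∣ d) (hR : ¬ p ∣ R) : n.factorization p = e * N := by
  have hd0 : d ≠ 0 := fun h => hd (h ▸ dvd_zero p)
  have hR0 : R ≠ 0 := fun h => hR (h ▸ dvd_zero p)
  have h := congrArg (fun x => Nat.factorization x p) heq
  simp only [hqe, ← pow_mul] at h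
  rw [Nat.factorization_mul hd0 hn, Nat.factorization_mul (pow_ne_zero _ hp.ne_zero) hR0] at h
  simpa [Nat.factorization_eq_zero_of_not_dvd hd, Nat.factorization_eq_zero_of_not_dvd hR,
    hp.factorization_pow] using h

theorem lt_of_formula {p q n d R N E : ℕ} (hp : p.Prime) (hq : PosPow p q) (_hn : n ≠ 0)
    (heq : d * n = q ^ N * R) (hd : ¬ p ∣ d) (hR : ¬ p ∣ R) (hRE : R ≤ q ^ E) (hE : 1 ≤ E) :
    n < q ^ (N + E) := by
  have hne : R ≠ q ^ E := fun h => hR (h ▸ dvd_trans hq.dvd (dvd_pow_self q (by omega)))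
  have hlt : R < q ^ E := lt_of_le_of_ne hRE hne
  have hd1 : 1 ≤ d := Nat.one_le_iff_ne_zero.2 fun h => hd (h ▸ dvd_zero p)
  have hpos : 0 < q ^ N := pow_pos (by have := hq.two_le hp; omega) N
  calc n ≤ d * n := Nat.le_mul_of_pos_left n hd1
    _ = q ^ N * R := heq
    _ < q ^ N * q ^ E := Nat.mul_lt_mul_of_pos_left hlt hpos
    _ = q ^ (N + E) := (pow_add _ _ _).symm

theorem first_bound {p q n d R N E : ℕ} (hp : p.Prime) (hq : PosPow p q) (hn : n ≠ 0)
    (heq : d * n = q ^ N * R) (hd : ¬ p ∣ d) (hR : ¬ p ∣ R) (hRE : R ≤ q ^ E) (hE : 1 ≤ E)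
    (h2 : E ≤ 2 * N) : n < p ^ (3 * n.factorization p) := by
  have hlt := lt_of_formula hp hq hn heq hd hR hRE hE
  obtain ⟨e, he, hqe⟩ := hq
  rw [factorization_of_formula hp hqe hn heq hd hR]
  refine lt_of_lt_of_le hlt ?_
  rw [hqe, ← pow_mul]
  exact Nat.pow_le_pow_right hp.pos (by nlinarith)

theorem bounds_of_formula {p q n d R N E : ℕ} (hp : p.Prime) (hq : PosPow p q) (hn : n ≠ 0)
    (heq : d * n = q ^ N * R) (hd : ¬ p ∣ d) (hR : ¬ p ∣ R) (hRE : R ≤ q ^ E) (hE : 1 ≤ E)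
    (h3 : 3 * E ≤ 5 * N) : Bounds p n := by
  refine ⟨first_bound hp hq hn heq hd hR hRE hE (by omega), ?_⟩
  have hlt := lt_of_formula hp hq hn heq hd hR hRE hE
  obtain ⟨e, he, hqe⟩ := hq
  rw [factorization_of_formula hp hqe hn heq hd hR]
  refine lt_of_lt_of_le (Nat.pow_lt_pow_left hlt (by norm_num : (3 : ℕ) ≠ 0)) ?_
  rw [hqe, ← pow_mul, ← pow_mul]
  exact Nat.pow_le_pow_right hp.pos (by nlinarith)

/-! ### The numerical products -/

theorem prod_sub_pow_eq (q : ℕ) : ∀ n : ℕ,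
    ∏ i : Fin n, (q ^ n - q ^ (i : ℕ)) =
      q ^ (∑ i ∈ Finset.range n, i) * ∏ i ∈ Finset.range n, (q ^ (i + 1) - 1) := by
  intro n
  induction n with
  | zero => simp
  | succ n ih =>
    rw [Fin.prod_univ_succ]
    have h : ∀ i : Fin n, q ^ (n + 1) - q ^ ((Fin.succ i : Fin (n + 1)) : ℕ) =
        q * (q ^ n - q ^ (i : ℕ)) := fun i => by
      rw [Fin.val_succ, pow_succ', pow_succ', Nat.mul_sub]
    rw [Finset.prod_congr rfl fun i _ => h i, Finset.prod_mul_distrib, Finset.prod_const,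
      Finset.card_univ, Fintype.card_fin, ih, Fin.val_zero, pow_zero, Finset.sum_range_succ,
      Finset.prod_range_succ, pow_add]
    ring

theorem sum_two_mul_succ (m : ℕ) : ∑ i ∈ Finset.range m, 2 * (i + 1) = m * (m + 1) := by
  induction m with
  | zero => simp
  | succ m ih => rw [Finset.sum_range_succ, ih]; ring

theorem sum_succ_succ (k : ℕ) :
    ∑ i ∈ Finset.range k, (i + 2) = (∑ i ∈ Finset.range (k + 1), i) + k := by
  induction k with
  | zero => simp
  | succ k ih => rw [Finset.sum_range_succ, ih, Finset.sum_range_succ _ (k + 1)]; omega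

theorem two_mul_sum_range (k : ℕ) : 2 * (∑ i ∈ Finset.range (k + 1), i) = k * (k + 1) := by
  have h := Finset.sum_range_id_mul_two (k + 1)
  rw [Nat.add_sub_cancel] at h
  rw [mul_comm, h, mul_comm]

/-- The factor of the unitary order formula at index `i + 1`. -/
def uFac (q i : ℕ) : ℕ := if Even (i + 1) then q ^ (i + 2) + 1 else q ^ (i + 2) - 1

theorem uFac_prod_le {q : ℕ} (hq : 2 ≤ q) : ∀ k : ℕ,
    ∏ i ∈ Finset.range k, uFac q i ≤ q ^ ((∑ i ∈ Finset.range (k + 1), i) + k) := by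
  intro k
  induction k using Nat.twoStepInduction with
  | zero => simp
  | one => simp [uFac, Finset.sum_range_succ]
  | more k ih0 ih1 =>
    rw [← sum_succ_succ] at ih0 ih1 ⊢
    rcases Nat.even_or_odd k with hk | hk
    · rw [Finset.prod_range_succ, Finset.prod_range_succ, Finset.sum_range_succ,
        Finset.sum_range_succ, pow_add, pow_add, mul_assoc, mul_assoc]
      refine Nat.mul_le_mul ih0 ?_
      have h1 : ¬ Even (k + 1) := by simp [Nat.even_add_one, hk]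
      have h2 : Even (k + 1 + 1) := by simp [Nat.even_add_one, hk]
      rw [uFac, uFac, if_neg h1, if_pos h2]
      have hm : q ^ (k + 2) ≤ q ^ (k + 1 + 2) := Nat.pow_le_pow_right (by omega) (by omega)
      rw [Nat.sub_mul]
      refine Nat.sub_le_of_le_add ?_
      rw [mul_add, mul_one, one_mul]
      omega
    · rw [Finset.prod_range_succ, Finset.sum_range_succ _ (k + 1), pow_add]
      refine Nat.mul_le_mul ih1 ?_
      have h2 : ¬ Even (k + 1 + 1) := by
        simp only [Nat.even_add_one, not_not, Nat.not_even_iff_odd]; exact hk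
      rw [uFac, if_neg h2]
      exact Nat.sub_le _ _

end Cfsg.Agent.LieOrder
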