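/-
Order bounds for the families of groups of Lie type.
-/
import Cfsg.Prelude.Def_LieTypeChar
import Cfsg.Agent.Lib.LieOrder.Bounds
import Cfsg.Agent.S0243
import Cfsg.Agent.S0246
import Cfsg.Agent.S0280
import Cfsg.Agent.S0292
import Cfsg.Agent.S0293
import Cfsg.Agent.S0294
import Cfsg.Agent.S1059
import Cfsg.Agent.S1062
import Cfsg.Agent.S1063
import Cfsg.Agent.S1064
import Cfsg.Agent.S1065
import Cfsg.Agent.S1069
import Cfsg.Agent.Lib.Forms.Symp
import Cfsg.Agent.Lib.Sz.Lie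

set_option autoImplicit false

namespace Cfsg.Agent.LieOrder

variable {F : Type*} [Field F] [Fintype F] {p : ℕ} [CharP F p]

theorem posPow_card : PosPow p (Fintype.card F) := by
  obtain ⟨n, -, h⟩ := FiniteField.card F p
  exact ⟨n, n.2, h⟩

theorem posPow_root {q r : ℕ} (hp : p.Prime) (hr : r ≠ 0) (h : Fintype.card F = q ^ r) : PosPow p q := by
  obtain ⟨n, -, hn⟩ := FiniteField.card F p
  refine posPow_of_pow_eq hp hr (h ▸ hn) ?_
  have h2 : 1 < q ^ r := h ▸ Fintype.one_lt_card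
  exact (Nat.one_lt_pow_iff hr).1 h2

theorem bounds_psl (hp : p.Prime) {n : ℕ} (hn : 2 ≤ n)
    (h0 : Nat.card (Matrix.ProjectiveSpecialLinearGroup (Fin n) F) ≠ 0) :
    Nat.card (Matrix.ProjectiveSpecialLinearGroup (Fin n) F) <
        p ^ (3 * (Nat.card (Matrix.ProjectiveSpecialLinearGroup (Fin n) F)).factorization p) ∧
      (n = 2 → Fintype.card F =
        p ^ (Nat.card (Matrix.ProjectiveSpecialLinearGroup (Fin n) F)).factorization p) ∧
      (3 ≤ n → Bounds p (Nat.card (Matrix.ProjectiveSpecialLinearGroup (Fin n) F))) := by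
  have hq : PosPow p (Fintype.card F) := posPow_card
  have h := Cfsg.Agent.S0243.result (F := F) rfl n hn
  obtain ⟨k, rfl⟩ : ∃ k, n = k + 1 := ⟨n - 1, by omega⟩
  rw [prod_sub_pow_eq, Finset.prod_range_succ', zero_add, pow_one] at h
  generalize hqd : Fintype.card F = q at hq h ⊢
  generalize Nat.card (Matrix.ProjectiveSpecialLinearGroup (Fin (k + 1)) F) = c at h0 h ⊢
  have heq : Nat.gcd (k + 1) (q - 1) * c = q ^ (∑ i ∈ Finset.range (k + 1), i) *
      ∏ i ∈ Finset.range k, (q ^ (i + 2) - 1) := by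
    apply Nat.eq_of_mul_eq_mul_left (show 0 < q - 1 by have := hq.two_le hp; omega)
    linarith
  have hd : ¬ p ∣ Nat.gcd (k + 1) (q - 1) := not_dvd_gcd (not_dvd_sub_one hp hq)
  have hR : ¬ p ∣ ∏ i ∈ Finset.range k, (q ^ (i + 2) - 1) :=
    not_dvd_prod hp fun i _ => not_dvd_pow_sub_one hp hq (by omega)
  have hRE : ∏ i ∈ Finset.range k, (q ^ (i + 2) - 1) ≤ q ^ ((∑ i ∈ Finset.range (k + 1), i) + k) :=
    sum_succ_succ k ▸ prod_pow_sub_one_le q _ _
  have hT := two_mul_sum_range k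
  refine ⟨first_bound hp hq h0 heq hd hR hRE (by omega) (by nlinarith), fun hk => ?_, fun hk => ?_⟩
  · obtain ⟨e, -, rfl⟩ := hq
    rw [factorization_of_formula hp rfl h0 heq hd hR]
    obtain rfl : k = 1 := by omega
    simp [Finset.sum_range_succ]
  · exact bounds_of_formula hp hq h0 heq hd hR hRE (by omega) (by nlinarith)

theorem bounds_psp (hp : p.Prime) {m : ℕ} (hm : 2 ≤ m) (h0 : Nat.card (PSp m F) ≠ 0) :
    Bounds p (Nat.card (PSp m F)) := by
  have hq : PosPow p (Fintype.card F) := posPow_card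
  have h := Forms.card_symplecticGroup (F := F) m
  rw [Subgroup.card_eq_card_quotient_mul_card_subgroup
      (Subgroup.center (Matrix.symplecticGroup (Fin m) F)),
    Cfsg.Agent.S0246.result rfl m (by omega), mul_comm] at h
  exact bounds_of_formula (E := m * (m + 1)) hp hq h0 h (not_dvd_gcd (not_dvd_sub_one hp hq))
    (not_dvd_prod hp fun i _ => not_dvd_pow_sub_one hp hq (by omega))
    (sum_two_mul_succ m ▸ prod_pow_sub_one_le _ _ _) (by nlinarith) (by nlinarith)

theorem bounds_psu (hp : p.Prime) {n q : ℕ} (hF : Fintype.card F = q ^ 2) (hn : 3 ≤ n)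
    (h0 : Nat.card (PSU n F q) ≠ 0) : Bounds p (Nat.card (PSU n F q)) := by
  have hq : PosPow p q := posPow_root hp two_ne_zero hF
  have h := Cfsg.Agent.S0280.result hF n (by omega)
  obtain ⟨k, rfl⟩ : ∃ k, n = k + 1 := ⟨n - 1, by omega⟩
  rw [← Finset.sum_range_id, Finset.prod_range_succ', if_pos (by simp), zero_add, pow_one,
    Finset.prod_congr rfl fun i _ => show (if Even (i + 1) then q ^ (i + 1 + 1) + 1 else q ^ (i + 1 + 1) - 1)
      = uFac q i from rfl] at h
  have heq : Nat.gcd (k + 1) (q + 1) * Nat.card (PSU (k + 1) F q) =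
      q ^ (∑ i ∈ Finset.range (k + 1), i) * ∏ i ∈ Finset.range k, uFac q i := by
    apply Nat.eq_of_mul_eq_mul_left (show 0 < q + 1 by omega)
    linarith
  have hR : ¬ p ∣ ∏ i ∈ Finset.range k, uFac q i := not_dvd_prod hp fun i _ => by
    rw [uFac]
    split
    · exact not_dvd_pow_add_one hp hq (by omega)
    · exact not_dvd_pow_sub_one hp hq (by omega)
  have hT := two_mul_sum_range k
  exact bounds_of_formula hp hq h0 heq (not_dvd_gcd (not_dvd_add_one hp hq)) hR
    (uFac_prod_le (hq.two_le hp) k) (by omega) (by nlinarith)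

theorem bounds_omega_odd (hp : p.Prime) {m : ℕ} (hm : 3 ≤ m) (hodd : Odd (Fintype.card F))
    (h0 : Nat.card (POmega F (quadFormOdd m F)) ≠ 0) :
    Bounds p (Nat.card (POmega F (quadFormOdd m F))) := by
  have hq : PosPow p (Fintype.card F) := posPow_card
  have h := Cfsg.Agent.S0292.result (F := F) rfl hodd m hm
  refine bounds_of_formula (E := m * (m + 1)) hp hq h0 h ?_
    (not_dvd_prod hp fun i _ => not_dvd_pow_sub_one hp hq (by omega))
    (sum_two_mul_succ m ▸ prod_pow_sub_one_le _ _ _) (by nlinarith) (by nlinarith)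
  intro h2
  obtain rfl := (Nat.prime_dvd_prime_iff_eq hp Nat.prime_two).1 h2
  exact (Nat.not_even_iff_odd.2 hodd) (even_iff_two_dvd.2 hq.dvd)

theorem bounds_omega_plus (hp : p.Prime) {m : ℕ} (hm : 4 ≤ m)
    (h0 : Nat.card (POmega F (quadFormPlus m F)) ≠ 0) :
    Bounds p (Nat.card (POmega F (quadFormPlus m F))) := by
  have hq : PosPow p (Fintype.card F) := posPow_card
  have h := Cfsg.Agent.S0293.result (F := F) rfl m hm
  rw [mul_assoc] at h
  refine bounds_of_formula (E := m + (m - 1) * m) hp hq h0 h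
    (not_dvd_gcd (not_dvd_pow_sub_one hp hq (by omega))) ?_ ?_ (by omega) ?_
  · exact fun hh => (hp.dvd_mul.1 hh).elim (not_dvd_pow_sub_one hp hq (by omega))
      (not_dvd_prod hp fun i _ => not_dvd_pow_sub_one hp hq (by omega))
  · rw [pow_add]
    refine Nat.mul_le_mul (Nat.sub_le _ _) ?_
    have := prod_pow_sub_one_le (Fintype.card F) (Finset.range (m - 1)) (fun i => 2 * (i + 1))
    rwa [sum_two_mul_succ, show m - 1 + 1 = m by omega] at this
  · obtain ⟨j, rfl⟩ : ∃ j, m = j + 4 := ⟨m - 4, by omega⟩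
    rw [show j + 4 - 1 = j + 3 by omega]
    nlinarith

theorem bounds_omega_minus (hp : p.Prime) {m : ℕ} (hm : 4 ≤ m) {a b : F}
    (hab : ∀ z₁ z₂ : F, z₁ ^ 2 + a * z₁ * z₂ + b * z₂ ^ 2 = 0 → z₁ = 0 ∧ z₂ = 0)
    (h0 : Nat.card (POmega F (quadFormMinus (m - 1) F a b)) ≠ 0) :
    Bounds p (Nat.card (POmega F (quadFormMinus (m - 1) F a b))) := by
  have hq : PosPow p (Fintype.card F) := posPow_card
  have h := Cfsg.Agent.S0294.result (F := F) rfl m hm a b hab
  rw [mul_assoc] at h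
  refine bounds_of_formula (E := (m + 1) + (m - 1) * m) hp hq h0 h
    (not_dvd_gcd (not_dvd_pow_add_one hp hq (by omega))) ?_ ?_ (by omega) ?_
  · exact fun hh => (hp.dvd_mul.1 hh).elim (not_dvd_pow_add_one hp hq (by omega))
      (not_dvd_prod hp fun i _ => not_dvd_pow_sub_one hp hq (by omega))
  · rw [pow_add]
    refine Nat.mul_le_mul (add_one_le_pow_succ (hq.two_le hp)) ?_
    have := prod_pow_sub_one_le (Fintype.card F) (Finset.range (m - 1)) (fun i => 2 * (i + 1))
    rwa [sum_two_mul_succ, show m - 1 + 1 = m by omega] at this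
  · obtain ⟨j, rfl⟩ : ∃ j, m = j + 4 := ⟨m - 4, by omega⟩
    rw [show j + 4 - 1 = j + 3 by omega]
    nlinarith

theorem bounds_exceptional (hp : p.Prime) {c : ℕ} (h0 : c ≠ 0)
    (h : (c = Nat.card ↥(Lie.chevG2.group F)) ∨ (c = Nat.card ↥(Lie.chevF4.group F)) ∨
      (c = Nat.card ↥(Lie.chevE6.group F)) ∨ (c = Nat.card ↥(Lie.chevE7.group F)) ∨
      (c = Nat.card ↥(Lie.chevE8.group F))) : Bounds p c := by
  have hq : PosPow p (Fintype.card F) := posPow_card
  have hs : ∀ j, j ≠ 0 → ¬ p ∣ Fintype.card F ^ j - 1 := fun j => not_dvd_pow_sub_one hp hq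
  have hmul : ∀ {a b : ℕ}, ¬ p ∣ a → ¬ p ∣ b → ¬ p ∣ a * b := fun ha hb hh =>
    (hp.dvd_mul.1 hh).elim ha hb
  have hle : ∀ j, Fintype.card F ^ j - 1 ≤ Fintype.card F ^ j := fun j => Nat.sub_le _ _
  rcases h with h | h | h | h | h
  · have e := Cfsg.Agent.S1059.result (F := F) rfl
    rw [← h, mul_assoc] at e
    refine bounds_of_formula (E := 2 + 6) hp hq h0 (d := 1) (by rw [one_mul]; exact e) hp.not_dvd_one
      (hmul (hs _ (by omega)) (hs _ (by omega))) ?_ (by omega) (by omega)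
    simp only [pow_add]
    gcongr <;> apply hle
  · have e := Cfsg.Agent.S1062.result (F := F) rfl
    rw [← h, mul_assoc, mul_assoc, mul_assoc] at e
    refine bounds_of_formula (E := 2 + (6 + (8 + 12))) hp hq h0 (d := 1) (by rw [one_mul]; exact e)
      hp.not_dvd_one ?_ ?_ (by omega) (by omega)
    · repeat' (first | apply hmul | apply hs | omega)
    · simp only [pow_add]
      gcongr <;> apply hle
  · have e := Cfsg.Agent.S1063.result (F := F) rfl
    rw [← h] at e
    simp only [mul_assoc] at e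
    refine bounds_of_formula (E := 2 + (5 + (6 + (8 + (9 + 12))))) hp hq h0 e
      (not_dvd_gcd (not_dvd_sub_one hp hq)) ?_ ?_ (by omega) (by omega)
    · repeat' (first | apply hmul | apply hs | omega)
    · simp only [pow_add]
      gcongr <;> apply hle
  · have e := Cfsg.Agent.S1064.result (F := F) rfl
    rw [← h] at e
    simp only [mul_assoc] at e
    refine bounds_of_formula (E := 2 + (6 + (8 + (10 + (12 + (14 + 18)))))) hp hq h0 e
      (not_dvd_gcd (not_dvd_sub_one hp hq)) ?_ ?_ (by omega) (by omega)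
    · repeat' (first | apply hmul | apply hs | omega)
    · simp only [pow_add]
      gcongr <;> apply hle
  · have e := Cfsg.Agent.S1065.result (F := F) rfl
    rw [← h] at e
    simp only [mul_assoc] at e
    refine bounds_of_formula (E := 2 + (8 + (12 + (14 + (18 + (20 + (24 + 30))))))) hp hq h0
      (d := 1) (by rw [one_mul]; exact e) hp.not_dvd_one ?_ ?_ (by omega) (by omega)
    · repeat' (first | apply hmul | apply hs | omega)
    · simp only [pow_add]
      gcongr <;> apply hle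

theorem bounds_suzuki {m : ℕ} (hm : 1 ≤ m) (hF : Fintype.card F = 2 ^ (2 * m + 1))
    (h0 : Nat.card (Lie.Sz F (2 ^ (m + 1))) ≠ 0) : Bounds 2 (Nat.card (Lie.Sz F (2 ^ (m + 1)))) := by
  have e := Cfsg.Agent.SZ.card_LieSz hm hF
  rw [hF, mul_assoc] at e
  have hq : PosPow 2 (2 ^ (2 * m + 1)) := ⟨_, by omega, rfl⟩
  refine bounds_of_formula (E := 3) Nat.prime_two hq h0 (d := 1) (by rw [one_mul]; exact e)
    Nat.prime_two.not_dvd_one
    (fun hh => (Nat.prime_two.dvd_mul.1 hh).elim (not_dvd_pow_add_one Nat.prime_two hq (by omega))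
      (not_dvd_sub_one Nat.prime_two hq)) ?_ (by omega) (by omega)
  have h2 := hq.two_le Nat.prime_two
  generalize 2 ^ (2 * m + 1) = q at h2
  obtain ⟨j, rfl⟩ : ∃ j, q = j + 2 := ⟨q - 2, by omega⟩
  rw [show j + 2 - 1 = j + 1 by omega]
  nlinarith

theorem bounds_ree {m : ℕ} (hF : Fintype.card F = 3 ^ (2 * m + 1))
    (h0 : Nat.card ↥(Lie.twistedG2 F (3 ^ m)) ≠ 0) : Bounds 3 (Nat.card ↥(Lie.twistedG2 F (3 ^ m))) := by
  have e := Cfsg.Agent.S1069.result (K := F) hF
  rw [mul_assoc] at e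
  have hq : PosPow 3 (3 ^ (2 * m + 1)) := ⟨_, by omega, rfl⟩
  refine bounds_of_formula (E := 1 + 4) Nat.prime_three hq h0 (d := 1) (by rw [one_mul]; exact e)
    Nat.prime_three.not_dvd_one
    (fun hh => (Nat.prime_three.dvd_mul.1 hh).elim (not_dvd_sub_one Nat.prime_three hq)
      (not_dvd_pow_add_one Nat.prime_three hq (by omega))) ?_ (by omega) (by omega)
  have h2 := hq.two_le Nat.prime_three
  generalize 3 ^ (2 * m + 1) = q at h2
  rw [pow_add, pow_one]
  exact Nat.mul_le_mul (Nat.sub_le _ _) (add_one_le_pow_succ h2)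

/-- `²E₆`, given its order formula. -/
theorem bounds_twistedE6 (hp : p.Prime) {q c : ℕ} (hF : Fintype.card F = q ^ 2) (h0 : c ≠ 0)
    (h : Nat.gcd 3 (q + 1) * c = q ^ 36 * (q ^ 2 - 1) * (q ^ 5 + 1) * (q ^ 6 - 1) * (q ^ 8 - 1) *
      (q ^ 9 + 1) * (q ^ 12 - 1)) : Bounds p c := by
  have hq : PosPow p q := posPow_root hp two_ne_zero hF
  have hs : ∀ j, j ≠ 0 → ¬ p ∣ q ^ j - 1 := fun j => not_dvd_pow_sub_one hp hq
  have ha : ∀ j, j ≠ 0 → ¬ p ∣ q ^ j + 1 := fun j => not_dvd_pow_add_one hp hq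
  have hmul : ∀ {a b : ℕ}, ¬ p ∣ a → ¬ p ∣ b → ¬ p ∣ a * b := fun ha hb hh =>
    (hp.dvd_mul.1 hh).elim ha hb
  simp only [mul_assoc] at h
  refine bounds_of_formula (E := 2 + (6 + (6 + (8 + (10 + 12))))) hp hq h0 h
    (not_dvd_gcd (not_dvd_add_one hp hq)) ?_ ?_ (by omega) (by omega)
  · repeat' (first | apply hmul | apply hs | apply ha | omega)
  · simp only [pow_add]
    gcongr <;> first | exact Nat.sub_le _ _ | exact add_one_le_pow_succ (hq.two_le hp)

/-- `³D₄`, given its order formula. -/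
theorem bounds_twistedD4 (hp : p.Prime) {q c : ℕ} (hF : Fintype.card F = q ^ 3) (h0 : c ≠ 0)
    (h : c = q ^ 12 * (q ^ 2 - 1) * (q ^ 6 - 1) * (q ^ 8 + q ^ 4 + 1)) : Bounds p c := by
  have hq : PosPow p q := posPow_root hp three_ne_zero hF
  have h2 := hq.two_le hp
  simp only [mul_assoc] at h
  refine bounds_of_formula (E := 2 + (6 + 10)) hp hq h0 (d := 1) (by rw [one_mul]; exact h)
    hp.not_dvd_one ?_ ?_ (by omega) (by omega)
  · refine fun hh => (hp.dvd_mul.1 hh).elim (not_dvd_pow_sub_one hp hq (by omega)) fun hh =>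
      (hp.dvd_mul.1 hh).elim (not_dvd_pow_sub_one hp hq (by omega)) fun hh => hp.not_dvd_one ?_
    exact (Nat.dvd_add_right (dvd_add (dvd_trans hq.dvd (dvd_pow_self q (by omega)))
      (dvd_trans hq.dvd (dvd_pow_self q (by omega))))).1 hh
  · simp only [pow_add]
    gcongr <;> try exact Nat.sub_le _ _
    have h4 : q ^ 4 ≤ q ^ 8 := Nat.pow_le_pow_right (by omega) (by omega)
    have h8 : 1 ≤ q ^ 8 := Nat.one_le_pow _ _ (by omega)
    have : 4 ≤ q ^ 2 := by nlinarith
    rw [show (10 : ℕ) = 8 + 2 from rfl, pow_add]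
    nlinarith

/-- `²F₄`, given its order formula. -/
theorem bounds_twistedF4 {q c : ℕ} (hq : PosPow 2 q) (h0 : c ≠ 0)
    (h : c = q ^ 12 * (q - 1) * (q ^ 3 + 1) * (q ^ 4 - 1) * (q ^ 6 + 1)) : Bounds 2 c := by
  have hp := Nat.prime_two
  have hmul : ∀ {a b : ℕ}, ¬ 2 ∣ a → ¬ 2 ∣ b → ¬ 2 ∣ a * b := fun ha hb hh =>
    (hp.dvd_mul.1 hh).elim ha hb
  simp only [mul_assoc] at h
  refine bounds_of_formula (E := 1 + (4 + (4 + 7))) hp hq h0 (d := 1) (by rw [one_mul]; exact h)
    hp.not_dvd_one (hmul (not_dvd_sub_one hp hq) (hmul (not_dvd_pow_add_one hp hq (by omega))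
      (hmul (not_dvd_pow_sub_one hp hq (by omega)) (not_dvd_pow_add_one hp hq (by omega))))) ?_
    (by omega) (by omega)
  simp only [pow_add, pow_one]
  gcongr <;> first | exact Nat.sub_le _ _ | exact add_one_le_pow_succ (hq.two_le hp)

end Cfsg.Agent.LieOrder
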