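/-
The order of a simple group of Lie type is bounded by powers of its `p`-part, assuming the three
twisted order formulas (`²E₆`, `³D₄`, `²F₄`).
-/
import Cfsg.Agent.Lib.LieOrder.Families

set_option autoImplicit false

namespace Cfsg.Agent.LieOrder

theorem main {G : Type*} [Group G] [Finite G] {p : ℕ} (hp : p.Prime) (hG : Cfsg.IsLieTypeChar p G)
    (hE : ∀ (K : Type) [Field K] [Fintype K] (q : ℕ), IsPrimePow q → Fintype.card K = q ^ 2 →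
      Nat.gcd 3 (q + 1) * Nat.card ↥(Cfsg.Lie.twistedE6 K q) =
        q ^ 36 * (q ^ 2 - 1) * (q ^ 5 + 1) * (q ^ 6 - 1) * (q ^ 8 - 1) * (q ^ 9 + 1) * (q ^ 12 - 1))
    (hD : ∀ (K : Type) [Field K] [Fintype K] (q : ℕ), IsPrimePow q → Fintype.card K = q ^ 3 →
      Nat.card ↥(Cfsg.Lie.twistedD4 K q) = q ^ 12 * (q ^ 2 - 1) * (q ^ 6 - 1) * (q ^ 8 + q ^ 4 + 1))
    (hT : ∀ (K : Type) [Field K] [Fintype K] (m : ℕ), 1 ≤ m → Fintype.card K = 2 ^ (2 * m + 1) →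
      Nat.card ↥(Cfsg.Lie.twistedF4 K (2 ^ m)) =
        (2 ^ (2 * m + 1)) ^ 12 * (2 ^ (2 * m + 1) - 1) * ((2 ^ (2 * m + 1)) ^ 3 + 1) *
          ((2 ^ (2 * m + 1)) ^ 4 - 1) * ((2 ^ (2 * m + 1)) ^ 6 + 1)) :
    Nat.card G < p ^ (3 * (Nat.card G).factorization p) ∧
      ((¬ ∃ (F : Type) (_ : Field F) (_ : Fintype F), Fintype.card F = p ^ (Nat.card G).factorization p ∧
          Nonempty (G ≃* Matrix.ProjectiveSpecialLinearGroup (Fin 2) F)) →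
        Nat.card G ^ 3 < p ^ (8 * (Nat.card G).factorization p)) := by
  have h0 : Nat.card G ≠ 0 := Nat.card_pos.ne'
  suffices h : Bounds p (Nat.card G) ∨
      (Nat.card G < p ^ (3 * (Nat.card G).factorization p) ∧
        ∃ (F : Type) (_ : Field F) (_ : Fintype F), Fintype.card F = p ^ (Nat.card G).factorization p ∧
          Nonempty (G ≃* Matrix.ProjectiveSpecialLinearGroup (Fin 2) F)) by
    rcases h with h | ⟨h, hF⟩
    · exact ⟨h.1, fun _ => h.2⟩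
    · exact ⟨h, fun hn => absurd hF hn⟩
  rcases hG with ⟨F, _, _, _, n, hn, -, ⟨e⟩⟩ | ⟨F, _, _, _, m, hm, -, ⟨e⟩⟩ |
      ⟨F, _, _, _, n, q, hF, hn, -, ⟨e⟩⟩ | ⟨F, _, _, _, m, hm, hodd, ⟨e⟩⟩ |
      ⟨F, _, _, _, m, hm, ⟨e⟩⟩ | ⟨F, _, _, _, m, a, b, hm, hab, ⟨e⟩⟩ | ⟨F, _, _, _, h⟩ |
      ⟨F, _, _, _, q, hq, h⟩ | ⟨rfl, F, _, _, m, hm, hF, ⟨e⟩⟩ | ⟨rfl, F, _, _, m, hm, hF, ⟨e⟩⟩ |
      ⟨rfl, F, _, _, m, hm, hF, ⟨e⟩⟩
  · have hc := Nat.card_congr e.toEquiv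
    obtain ⟨h1, h2, h3⟩ := bounds_psl (F := F) hp hn (hc ▸ h0)
    rcases (show n = 2 ∨ 3 ≤ n by omega) with rfl | hn3
    · exact Or.inr ⟨hc ▸ h1, F, inferInstance, inferInstance, hc ▸ h2 rfl, ⟨e⟩⟩
    · exact Or.inl (hc ▸ h3 hn3)
  · have hc := Nat.card_congr e.toEquiv
    exact Or.inl (hc ▸ bounds_psp (F := F) hp hm (hc ▸ h0))
  · have hc := Nat.card_congr e.toEquiv
    exact Or.inl (hc ▸ bounds_psu hp hF hn (hc ▸ h0))
  · have hc := Nat.card_congr e.toEquiv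
    exact Or.inl (hc ▸ bounds_omega_odd hp hm hodd (hc ▸ h0))
  · have hc := Nat.card_congr e.toEquiv
    exact Or.inl (hc ▸ bounds_omega_plus hp hm (hc ▸ h0))
  · have hc := Nat.card_congr e.toEquiv
    exact Or.inl (hc ▸ bounds_omega_minus hp hm hab (hc ▸ h0))
  · refine Or.inl (bounds_exceptional (F := F) hp h0 ?_)
    rcases h with ⟨-, ⟨e⟩⟩ | ⟨⟨e⟩⟩ | ⟨⟨e⟩⟩ | ⟨⟨e⟩⟩ | ⟨⟨e⟩⟩
    · exact Or.inl (Nat.card_congr e.toEquiv)
    · exact Or.inr (Or.inl (Nat.card_congr e.toEquiv))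
    · exact Or.inr (Or.inr (Or.inl (Nat.card_congr e.toEquiv)))
    · exact Or.inr (Or.inr (Or.inr (Or.inl (Nat.card_congr e.toEquiv))))
    · exact Or.inr (Or.inr (Or.inr (Or.inr (Nat.card_congr e.toEquiv))))
  · refine Or.inl ?_
    rcases h with ⟨hF, ⟨e⟩⟩ | ⟨hF, ⟨e⟩⟩
    · exact bounds_twistedE6 hp hF h0 (Nat.card_congr e.toEquiv ▸ hE F q hq hF)
    · exact bounds_twistedD4 hp hF h0 (Nat.card_congr e.toEquiv ▸ hD F q hq hF)
  · have hc := Nat.card_congr e.toEquiv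
    exact Or.inl (hc ▸ bounds_suzuki hm hF (hc ▸ h0))
  · exact Or.inl (bounds_twistedF4 ⟨_, by omega, rfl⟩ h0
      (Nat.card_congr e.toEquiv ▸ hT F m hm hF))
  · have hc := Nat.card_congr e.toEquiv
    exact Or.inl (hc ▸ bounds_ree hF (hc ▸ h0))

end Cfsg.Agent.LieOrder
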